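import Groth.Agent.FpqcHom.Desc
import Groth.Agent.AlgSpLib.Space
import Groth.Prelude.Def_AlgSpCov

/-!
# Colimits of algebraic spaces are detected on fpqc coverings
-/

set_option autoImplicit false
universe w v u

open CategoryTheory CategoryTheory.Limits AlgebraicGeometry

set_option backward.isDefEq.respectTransparency false

namespace Groth.Agent.FpqcHom

open _root_.AlgSp Groth.Agent.AlgSpLib

variable {S : Scheme.{u}} {B : Space S} {I : Type v} [Category.{w} I] {D : I ⥤ Over B} {c : Cocone D}

/-- the base change of a system over a space under the cocone point -/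
theorem exists_system {U : Over B} (u : U ⟶ c.pt) :
    ∃ (Du : I ⥤ Over B) (α : Du ⟶ D) (ι : Du ⟶ (Functor.const I).obj U),
      ∀ i, IsPullback (ι.app i).left.hom (α.app i).left.hom u.left.hom (c.ι.app i).left.hom := by
  let P : I → Sp S := fun i => pullback u.left.hom (c.ι.app i).left.hom
  have hP : ∀ i, IsAlgSpace (P i) := fun i => isAlgSpace_of_isPullback_space c.pt.left.property U.left.property
    (D.obj i).left.property (IsPullback.of_hasPullback _ _)
  let PS : I → Space S := fun i => ⟨P i, hP i⟩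
  let p₂ : ∀ i, PS i ⟶ (D.obj i).left := fun i => ObjectProperty.homMk (pullback.snd _ _)
  let p₁ : ∀ i, PS i ⟶ U.left := fun i => ObjectProperty.homMk (pullback.fst _ _)
  have hw : ∀ i, p₁ i ≫ u.left = p₂ i ≫ (c.ι.app i).left := fun i => ObjectProperty.hom_ext _ pullback.condition
  have hext : ∀ {i : I} {T : Space S} (x y : T ⟶ PS i), x ≫ p₁ i = y ≫ p₁ i → x ≫ p₂ i = y ≫ p₂ i → x = y :=
    fun x y e e' => ObjectProperty.hom_ext _
      (pullback.hom_ext (congrArg (fun k => k.hom) e) (congrArg (fun k => k.hom) e'))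
  have hex : ∀ ⦃i j : I⦄ (f : i ⟶ j), ∃ q : PS i ⟶ PS j,
      q ≫ p₁ j = p₁ i ∧ q ≫ p₂ j = p₂ i ≫ (D.map f).left := fun i j f => by
    refine ⟨ObjectProperty.homMk (pullback.lift (p₁ i).hom (p₂ i ≫ (D.map f).left).hom ?_),
      ObjectProperty.hom_ext _ (pullback.lift_fst _ _ _), ObjectProperty.hom_ext _ (pullback.lift_snd _ _ _)⟩
    have e : p₁ i ≫ u.left = (p₂ i ≫ (D.map f).left) ≫ (c.ι.app j).left := by
      rw [Category.assoc, ← Over.comp_left, c.w, hw]
    exact congrArg (fun k => k.hom) e
  choose q hq₁ hq₂ using hex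
  let obj : I → Over B := fun i => Over.mk (p₂ i ≫ (D.obj i).hom)
  let mor : ∀ ⦃i j : I⦄, (i ⟶ j) → (obj i ⟶ obj j) := fun i j f => Over.homMk (q f) (by
    show q f ≫ p₂ j ≫ (D.obj j).hom = p₂ i ≫ (D.obj i).hom
    rw [← Category.assoc, hq₂, Category.assoc, Over.w])
  let Du : I ⥤ Over B :=
    { obj := obj
      map := fun f => mor f
      map_id := fun i => Over.OverMorphism.ext (by
        show q (𝟙 i) = 𝟙 (PS i)
        refine hext _ _ (by rw [hq₁, Category.id_comp]) ?_
        rw [hq₂, CategoryTheory.Functor.map_id, Category.id_comp]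
        exact Category.comp_id _)
      map_comp := fun {i j k} f f' => Over.OverMorphism.ext (by
        show q (f ≫ f') = q f ≫ q f'
        refine hext _ _ (by rw [hq₁, Category.assoc, hq₁, hq₁]) ?_
        rw [hq₂, Category.assoc, hq₂, ← Category.assoc (q f), hq₂, Functor.map_comp, Over.comp_left, Category.assoc]) }
  refine ⟨Du, { app := fun i => Over.homMk (p₂ i) rfl
                naturality := fun i j f => Over.OverMorphism.ext (hq₂ f) },
    { app := fun i => Over.homMk (p₁ i) (by
        show p₁ i ≫ U.hom = p₂ i ≫ (D.obj i).hom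
        rw [← Over.w u, ← Category.assoc, hw, Category.assoc]
        exact congrArg (p₂ i ≫ ·) (Over.w (c.ι.app i)))
      naturality := fun i j f => Over.OverMorphism.ext (by
        show q f ≫ p₁ j = p₁ i ≫ 𝟙 _
        rw [hq₁, Category.comp_id]) }, fun i => IsPullback.of_hasPullback _ _⟩

theorem nonempty_isColimit {κ : Type u} (Ua : κ → Over B) (ua : ∀ a, Ua a ⟶ c.pt)
    (hcov : IsFpqcCover (fun a => (Ua a).left.obj) (fun a => (ua a).left.hom))
    (h₁ : ∀ (a : κ) (Da : I ⥤ Over B) (α : Da ⟶ D) (ι : Da ⟶ (Functor.const I).obj (Ua a)),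
      (∀ i, IsPullback (ι.app i).left.hom (α.app i).left.hom (ua a).left.hom (c.ι.app i).left.hom) →
        Nonempty (IsColimit (Cocone.mk (Ua a) ι)))
    (h₂ : ∀ (a b : κ) (Uab : Over B) (pa : Uab ⟶ Ua a) (pb : Uab ⟶ Ua b),
      IsPullback pa.left.hom pb.left.hom (ua a).left.hom (ua b).left.hom →
      ∀ (Dab : I ⥤ Over B) (α : Dab ⟶ D) (ι : Dab ⟶ (Functor.const I).obj Uab),
        (∀ i, IsPullback (ι.app i).left.hom (α.app i).left.hom (pa ≫ ua a).left.hom (c.ι.app i).left.hom) →
          Nonempty (IsColimit (Cocone.mk Uab ι))) :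
    Nonempty (IsColimit c) := by
  choose Da α ι sq using fun a => exists_system (c := c) (ua a)
  have hcol := fun a => (h₁ a (Da a) (α a) (ι a) (sq a)).some
  have huniq : ∀ {F : Over B} (m m' : c.pt ⟶ F), (∀ i, c.ι.app i ≫ m = c.ι.app i ≫ m') → m = m' := by
    intro F m m' hm
    refine Over.OverMorphism.ext (ObjectProperty.hom_ext _ (hom_ext hcov F.left.property (𝟙 _)
      fun {T} z a l hl => ?_))
    rw [Category.comp_id] at hl
    have key : ua a ≫ m = ua a ≫ m' := (hcol a).hom_ext fun i => by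
      show (ι a).app i ≫ ua a ≫ m = (ι a).app i ≫ ua a ≫ m'
      have e : (ι a).app i ≫ ua a = (α a).app i ≫ c.ι.app i :=
        Over.OverMorphism.ext (ObjectProperty.hom_ext _ (sq a i).w)
      rw [reassoc_of% e, reassoc_of% e, hm i]
    have := congrArg (fun k : Ua a ⟶ F => l ≫ k.left.hom) key
    simp only [Over.comp_left] at this
    change l ≫ (ua a).left.hom ≫ m.left.hom = l ≫ (ua a).left.hom ≫ m'.left.hom at this
    rwa [reassoc_of% hl, reassoc_of% hl] at this
  have hdesc : ∀ s : Cocone D, ∃ m : c.pt ⟶ s.pt, ∀ i, c.ι.app i ≫ m = s.ι.app i := by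
    intro s
    let sa : ∀ a, Cocone (Da a) := fun a => { pt := s.pt, ι := α a ≫ s.ι }
    let ma : ∀ a, Ua a ⟶ s.pt := fun a => (hcol a).desc (sa a)
    have hma : ∀ a i, (ι a).app i ≫ ma a = (α a).app i ≫ s.ι.app i := fun a i => (hcol a).fac (sa a) i
    have hagree : ∀ {T : Over S} (a b : κ) (x : (yon S).obj T ⟶ (Ua a).left.obj)
        (y : (yon S).obj T ⟶ (Ua b).left.obj), x ≫ (ua a).left.hom = y ≫ (ua b).left.hom →
        x ≫ (ma a).left.hom = y ≫ (ma b).left.hom := by
      intro T a b x y hxy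
      let P : Space S := ⟨pullback (ua a).left.hom (ua b).left.hom, isAlgSpace_of_isPullback_space
        c.pt.left.property (Ua a).left.property (Ua b).left.property (IsPullback.of_hasPullback _ _)⟩
      let q₁ : P ⟶ (Ua a).left := ObjectProperty.homMk (pullback.fst _ _)
      let q₂ : P ⟶ (Ua b).left := ObjectProperty.homMk (pullback.snd _ _)
      let Uab : Over B := Over.mk (q₁ ≫ (Ua a).hom)
      have hq : q₁ ≫ (ua a).left = q₂ ≫ (ua b).left := ObjectProperty.hom_ext _ pullback.condition
      let pa : Uab ⟶ Ua a := Over.homMk q₁ rfl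
      let pb : Uab ⟶ Ua b := Over.homMk q₂ (by
        show q₂ ≫ (Ua b).hom = q₁ ≫ (Ua a).hom
        rw [← Over.w (ua a), ← Over.w (ua b), reassoc_of% hq])
      obtain ⟨Dab, αab, ιab, sqab⟩ := exists_system (c := c) (pa ≫ ua a)
      have hc := (h₂ a b Uab pa pb (IsPullback.of_hasPullback _ _) Dab αab ιab sqab).some
      have hp : pa ≫ ua a = pb ≫ ua b := Over.OverMorphism.ext hq
      have hside : ∀ (e : κ) (p : Uab ⟶ Ua e), p ≫ ua e = pa ≫ ua a →
          ∀ i, ιab.app i ≫ p ≫ ma e = αab.app i ≫ s.ι.app i := by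
        intro e p he i
        have hw : ((ιab.app i) ≫ p).left.hom ≫ (ua e).left.hom = (αab.app i).left.hom ≫ (c.ι.app i).left.hom := by
          rw [← (sqab i).w, ← he]
          rfl
        let l : (Dab.obj i).left ⟶ ((Da e).obj i).left := ObjectProperty.homMk ((sq e i).lift _ _ hw)
        have hl₁ : l ≫ ((ι e).app i).left = (ιab.app i ≫ p).left := ObjectProperty.hom_ext _ ((sq e i).lift_fst _ _ hw)
        have hl₂ : l ≫ ((α e).app i).left = (αab.app i).left := ObjectProperty.hom_ext _ ((sq e i).lift_snd _ _ hw)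
        have := congrArg (fun k : (Da e).obj i ⟶ s.pt => l ≫ k.left) (hma e i)
        simp only [Over.comp_left] at this
        rw [reassoc_of% hl₁, reassoc_of% hl₂] at this
        refine Over.OverMorphism.ext ?_
        simpa only [Over.comp_left, Category.assoc] using this
      have key : pa ≫ ma a = pb ≫ ma b := hc.hom_ext fun i => by
        show ιab.app i ≫ pa ≫ ma a = ιab.app i ≫ pb ≫ ma b
        rw [hside a pa rfl, hside b pb hp.symm]
      have := congrArg (fun k : Uab ⟶ s.pt => pullback.lift x y hxy ≫ k.left.hom) key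
      simp only [Over.comp_left] at this
      change pullback.lift x y hxy ≫ pullback.fst _ _ ≫ (ma a).left.hom =
        pullback.lift x y hxy ≫ pullback.snd _ _ ≫ (ma b).left.hom at this
      rwa [pullback.lift_fst_assoc, pullback.lift_snd_assoc] at this
    obtain ⟨m₀, hm₀⟩ := exists_desc hcov s.pt.left.property (fun a => (ma a).left.hom) fun a b x y h => hagree a b x y h
    have hmB : m₀ ≫ s.pt.hom.hom = c.pt.hom.hom := hom_ext hcov B.property (𝟙 _) fun z a l hl => by
      rw [Category.comp_id] at hl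
      have e₁ : (ma a).left.hom ≫ s.pt.hom.hom = (Ua a).hom.hom := congrArg (fun k => k.hom) (Over.w (ma a))
      have e₂ : (ua a).left.hom ≫ c.pt.hom.hom = (Ua a).hom.hom := congrArg (fun k => k.hom) (Over.w (ua a))
      rw [← hl]
      simp only [Category.assoc]
      rw [reassoc_of% (hm₀ a), e₁, e₂]
    refine ⟨Over.homMk (ObjectProperty.homMk m₀) (ObjectProperty.hom_ext _ hmB), fun i => ?_⟩
    refine Over.OverMorphism.ext (ObjectProperty.hom_ext _ ?_)
    show (c.ι.app i).left.hom ≫ m₀ = (s.ι.app i).left.hom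
    refine hom_ext hcov s.pt.left.property (c.ι.app i).left.hom fun {T} z a l hl => ?_
    rw [← Category.assoc, ← hl, Category.assoc, hm₀]
    have := congrArg (fun k : (Da a).obj i ⟶ s.pt => (sq a i).lift l z hl ≫ k.left.hom) (hma a i)
    simp only [Over.comp_left] at this
    change (sq a i).lift l z hl ≫ ((ι a).app i).left.hom ≫ (ma a).left.hom =
      (sq a i).lift l z hl ≫ ((α a).app i).left.hom ≫ (s.ι.app i).left.hom at this
    rwa [IsPullback.lift_fst_assoc, IsPullback.lift_snd_assoc] at this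
  choose m hm using hdesc
  exact ⟨{ desc := m, fac := hm, uniq := fun s n hn => huniq _ _ fun i => (hn i).trans (hm s i).symm }⟩

end Groth.Agent.FpqcHom
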