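import Groth.Agent.FpqcSheaf.Site
import Groth.Agent.AlgSpLib.FpqcRep

/-!
# Descent of morphisms to algebraic spaces along fpqc coverings
-/

set_option autoImplicit false
universe u

open CategoryTheory CategoryTheory.Limits AlgebraicGeometry Opposite

set_option backward.isDefEq.respectTransparency false

namespace Groth.Agent.FpqcHom

open _root_.AlgSp Groth.Agent.AlgSpLib

variable {S : Scheme.{u}} {κ : Type u} {X : Sp S} {Xi : κ → Sp S} (g : ∀ i, Xi i ⟶ X)

/-- the sieve of maps over which a point lifts to the family -/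
def liftSieve {T : Over S} (h : (yon S).obj T ⟶ X) : Sieve T where
  arrows Y φ := ∃ (i : κ) (l : (yon S).obj Y ⟶ Xi i), l ≫ g i = (yon S).map φ ≫ h
  downward_closed := by
    rintro Y Z φ ⟨i, l, hl⟩ ψ
    exact ⟨i, (yon S).map ψ ≫ l, by rw [Category.assoc, hl, Functor.map_comp, Category.assoc]⟩

theorem liftSieve_mem (hg : IsFpqcCover Xi g) {T : Over S} (h : (yon S).obj T ⟶ X) :
    liftSieve g h ∈ (Scheme.fpqcTopology.over S) T := by
  rw [GrothendieckTopology.mem_over_iff]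
  refine Scheme.fpqcTopology.transitive (Precoverage.generate_mem_toGrothendieck
    (Scheme.fppfPrecoverage_le_fpqcPrecoverage _
      (Scheme.zariskiPrecoverage_le_fppfPrecoverage _ T.left.affineCover.mem₀))) _ ?_
  rintro Z φ ⟨Z', a, _, ⟨j⟩, rfl⟩
  rw [Sieve.pullback_comp]
  refine Scheme.fpqcTopology.pullback_stable _ ?_
  let O : Over S := Over.mk (T.left.affineCover.f j ≫ T.hom)
  let o : O ⟶ T := Over.homMk (T.left.affineCover.f j) rfl
  obtain ⟨K, _, A, fA, c, hA, _, _, _, _, hl⟩ :=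
    exists_pieces hg (Z := O) (inferInstanceAs (IsAffine (T.left.affineCover.X j))) ((yon S).map o ≫ h)
  refine Scheme.fpqcTopology.transitive (Precoverage.generate_mem_toGrothendieck
    c.left.singleton_mem_fpqcPrecoverage) _ ?_
  rintro W ψ ⟨W', b, _, ⟨⟩, rfl⟩
  rw [Sieve.pullback_comp]
  refine Scheme.fpqcTopology.pullback_stable _ ?_
  refine Scheme.fpqcTopology.transitive (Precoverage.generate_mem_toGrothendieck
    (Scheme.fppfPrecoverage_le_fpqcPrecoverage _
      (Scheme.zariskiPrecoverage_le_fppfPrecoverage _ (sigmaOpenCover A).mem₀))) _ ?_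
  rintro V χ ⟨V', d, _, ⟨k⟩, rfl⟩
  rw [Sieve.pullback_comp]
  refine Scheme.fpqcTopology.pullback_stable _ ?_
  refine Scheme.fpqcTopology.covering_of_eq_top (eq_top_iff.2 fun V'' e _ => ?_)
  suffices H : ∀ (k : K) (W : Scheme.{u}) (e : W ⟶ A k),
      Sieve.overEquiv T (liftSieve g h) (((e ≫ Sigma.ι A k) ≫ c.left) ≫ T.left.affineCover.f j) from H k V'' e
  intro k V'' e
  rw [Sieve.overEquiv_iff]
  obtain ⟨i, l, hl⟩ := hl k
  let u : Over.mk ((((e ≫ Sigma.ι A k) ≫ c.left) ≫ T.left.affineCover.f j) ≫ T.hom) ⟶ Over.mk (fA k) :=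
    Over.homMk e (by
      show e ≫ fA k = _
      have hc : c.left ≫ T.left.affineCover.f j ≫ T.hom = Sigma.desc fA := Over.w c
      refine (((congrArg (fun q => e ≫ Sigma.ι A k ≫ q) hc).trans (congrArg (e ≫ ·) (Sigma.ι_desc fA k))).symm).trans ?_
      exact ((Category.assoc _ _ _).trans ((Category.assoc _ _ _).trans (Category.assoc _ _ _))).symm)
  have hu : u ≫ sigmaInj fA k ≫ c ≫ o =
      Over.homMk (((e ≫ Sigma.ι A k) ≫ c.left) ≫ T.left.affineCover.f j) rfl := by
    refine Over.OverMorphism.ext ?_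
    show e ≫ Sigma.ι A k ≫ c.left ≫ T.left.affineCover.f j = _
    simp only [Category.assoc]
    rfl
  refine ⟨i, (yon S).map u ≫ l, ?_⟩
  refine (Category.assoc _ _ _).trans ?_
  rw [hl]
  refine Eq.trans ?_ (congrArg (fun q => (yon S).map q ≫ h) hu)
  simp only [Functor.map_comp, Category.assoc]

variable {g}

/-- two maps agreeing where a point lifts to the covering are equal -/
theorem hom_ext (hg : IsFpqcCover Xi g) {X' F : Sp S} (hF : IsAlgSpace F) (h : X' ⟶ X) {f f' : X' ⟶ F}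
    (e : ∀ {T : Over S} (z : (yon S).obj T ⟶ X') (i : κ) (l : (yon S).obj T ⟶ Xi i),
      l ≫ g i = z ≫ h → z ≫ f = z ≫ f') : f = f' := by
  have key : ∀ {T : Over S} (z : (yon S).obj T ⟶ X'), z ≫ f = z ≫ f' := fun {T} z => by
    refine (J S).uliftYonedaEquiv.injective ((((isSheaf_iff_isSheaf_of_type _ _).1
      (FpqcSheaf.isSheaf_fpqc hF)) _ (liftSieve_mem g hg (z ≫ h))).isSeparatedFor.ext ?_)
    rintro Y φ ⟨i, l, hl⟩
    rw [← Category.assoc] at hl
    rw [GrothendieckTopology.uliftYonedaEquiv_naturality, GrothendieckTopology.uliftYonedaEquiv_naturality,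
      ← Category.assoc, ← Category.assoc, e _ i l hl]
  refine Sheaf.hom_ext ?_
  ext T x
  have := congrArg (J S).uliftYonedaEquiv (key ((J S).uliftYonedaEquiv.symm x))
  rw [uliftYonedaEquiv_comp', uliftYonedaEquiv_comp', Equiv.apply_symm_apply] at this
  exact this

/-- compatible maps on a covering descend -/
theorem exists_desc (hg : IsFpqcCover Xi g) {F : Sp S} (hF : IsAlgSpace F) (m : ∀ i, Xi i ⟶ F)
    (hm : ∀ {T : Over S} (i j : κ) (a : (yon S).obj T ⟶ Xi i) (b : (yon S).obj T ⟶ Xi j),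
      a ≫ g i = b ≫ g j → a ≫ m i = b ≫ m j) :
    ∃ f : X ⟶ F, ∀ i, g i ≫ f = m i := by
  have hsh := (isSheaf_iff_isSheaf_of_type _ _).1 (FpqcSheaf.isSheaf_fpqc hF)
  let fam : ∀ {T : Over S} (h : (yon S).obj T ⟶ X), Presieve.FamilyOfElements F.obj (liftSieve g h).arrows :=
    fun h Y φ hφ => (J S).uliftYonedaEquiv (hφ.choose_spec.choose ≫ m hφ.choose)
  have hfam : ∀ {T : Over S} (h : (yon S).obj T ⟶ X) ⦃Y : Over S⦄ (φ : Y ⟶ T) (hφ : liftSieve g h φ) (i : κ)
      (l : (yon S).obj Y ⟶ Xi i), l ≫ g i = (yon S).map φ ≫ h →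
        fam h φ hφ = (J S).uliftYonedaEquiv (l ≫ m i) :=
    fun h Y φ hφ i l hl => congrArg (fun q => (J S).uliftYonedaEquiv q)
      (hm _ _ _ _ (hφ.choose_spec.choose_spec.trans hl.symm))
  have hcompat : ∀ {T : Over S} (h : (yon S).obj T ⟶ X), (fam h).Compatible := fun h => by
    intro Y₁ Y₂ W p₁ p₂ φ₁ φ₂ h₁ h₂ e
    obtain ⟨i₁, l₁, hl₁⟩ := id h₁
    obtain ⟨i₂, l₂, hl₂⟩ := id h₂
    rw [hfam h φ₁ h₁ i₁ l₁ hl₁, hfam h φ₂ h₂ i₂ l₂ hl₂, GrothendieckTopology.uliftYonedaEquiv_naturality,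
      GrothendieckTopology.uliftYonedaEquiv_naturality, ← Category.assoc, ← Category.assoc]
    refine congrArg _ (hm _ _ _ _ ?_)
    rw [Category.assoc, Category.assoc, hl₁, hl₂, ← Functor.map_comp_assoc, ← Functor.map_comp_assoc, e]
  choose val hval using fun {T : Over S} (h : (yon S).obj T ⟶ X) =>
    (hsh _ (liftSieve_mem g hg h)).isAmalgamation (hcompat h) |> fun p => (⟨_, p⟩ : ∃ x, (fam h).IsAmalgamation x)
  let f : X ⟶ F := ⟨{
    app := fun T => TypeCat.ofHom fun x => val ((J S).uliftYonedaEquiv.symm x)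
    naturality := fun T T' q => by
      ext x
      show val ((J S).uliftYonedaEquiv.symm (X.obj.map q x)) = F.obj.map q (val ((J S).uliftYonedaEquiv.symm x))
      refine ((hsh _ (liftSieve_mem g hg ((J S).uliftYonedaEquiv.symm (X.obj.map q x)))).isSeparatedFor.ext ?_)
      rintro Y φ hφ
      obtain ⟨i, l, hl⟩ := id hφ
      refine (hval _ φ hφ).trans ((hfam _ φ hφ i l hl).trans ?_)
      have hl' : l ≫ g i = (yon S).map (φ ≫ q.unop) ≫ (J S).uliftYonedaEquiv.symm x := by
        rw [hl, Functor.map_comp, Category.assoc]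
        exact congrArg (_ ≫ ·) (GrothendieckTopology.uliftYonedaEquiv_symm_naturality_left (J S) q.unop X x).symm
      refine ((hfam _ (φ ≫ q.unop) ⟨i, l, hl'⟩ i l hl').symm.trans (hval _ (φ ≫ q.unop) ⟨i, l, hl'⟩).symm).trans ?_
      simp }⟩
  refine ⟨f, fun i => Sheaf.hom_ext ?_⟩
  ext T x
  let l : (yon S).obj T.unop ⟶ Xi i := (J S).uliftYonedaEquiv.symm x
  have hx : (J S).uliftYonedaEquiv.symm ((g i).hom.app T x) = l ≫ g i := by
    refine (J S).uliftYonedaEquiv.injective ?_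
    rw [uliftYonedaEquiv_comp', Equiv.apply_symm_apply, Equiv.apply_symm_apply]
  have hmem : liftSieve g (l ≫ g i) (𝟙 T.unop) := ⟨i, l, by rw [(yon S).map_id, Category.id_comp]⟩
  show val ((J S).uliftYonedaEquiv.symm ((g i).hom.app T x)) = (m i).hom.app T x
  rw [hx]
  have := (hval (l ≫ g i) (𝟙 T.unop) hmem).trans (hfam _ _ hmem i l (by rw [(yon S).map_id, Category.id_comp]))
  refine Eq.trans ?_ (this.trans ?_)
  · simp
  · exact (uliftYonedaEquiv_comp' l (m i)).trans (congrArg (fun y => (m i).hom.app T y)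
      (show (J S).uliftYonedaEquiv l = x from Equiv.apply_symm_apply _ x))

end Groth.Agent.FpqcHom
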